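import Cfsg.Agent.H635.SporTh31
import Cfsg.Agent.H964.NoHall.Tr
import Cfsg.Agent.Fischer.Fi22Order
import Cfsg.Agent.Prune
set_option linter.all false
prune_inst 0x7f00000000000000000000000000000000000000000000000000000000000000000000000000000000000000000000000000000000000000000000000000000000000000000000000000000000000000003fffffffffffffffffffffffffffbeffbdffffffff
open scoped Cfsg.Agent.FastGrp

/-!
# No Hall systems: Fi22 (helper964)

The product of the generators `i, h, d, e, f, g` (a chain of type `A₆`) has order 7 and commutes with `a` and `b`.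
-/

set_option autoImplicit false
set_option maxRecDepth 100000

namespace Cfsg.Agent.H964.NoHall

open Subgroup Cfsg Cfsg.Agent.H554 MulAction

section

open Cfsg.Spor Cfsg.Spor.Fi22 Cfsg.Agent.Lib.PermNet Cfsg.Agent.Lib.PermNetOrbit
open Cfsg.Agent.Fischer.Fi22PtsRep Cfsg.Agent.Fischer.Fi22Order

theorem fi22_pow {w : List Gen} {m : ℕ} (h : checkEq 12 (wpow (nw w) m) [] = true) : wd w ^ m = 1 := by
  apply φ_injective
  rw [map_pow, φ_wd, ← wperm_wpow, map_one, ← wperm_nil]
  refine wperm_eq_of_checkEq (k := 12) ?_ (WOk.nil _) h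
  exact WOk.wpow (nw_ok w) m

theorem fi22_ne {w : List Gen} {m : ℕ}
    (h : (List.range m).any (fun p => !Nat.beq (ptWord (nw w) p) p) = true) : wd w ≠ 1 := by
  intro h1
  obtain ⟨p, -, h2⟩ := List.any_eq_true.mp h
  have h3 := φ_wd_apply w p
  rw [h1, map_one, Equiv.Perm.one_apply] at h3
  rw [← h3, Nat.beq_refl] at h2
  exact absurd h2 (by simp)

theorem fi22_x7 : wd [.i, .h, .d, .e, .f, .g] ^ 7 = 1 := fi22_pow (by decide +kernel)
theorem fi22_x1 : wd [.i, .h, .d, .e, .f, .g] ≠ 1 := fi22_ne (m := 12) (by decide +kernel)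
theorem fi22_y3 : wd [.a, .b] ^ 3 = 1 := fi22_pow (by decide +kernel)
theorem fi22_y1 : wd [.a, .b] ≠ 1 := fi22_ne (m := 12) (by decide +kernel)
theorem fi22_z2 : wd [.a] ^ 2 = 1 := fi22_pow (by decide +kernel)
theorem fi22_z1 : wd [.a] ≠ 1 := fi22_ne (m := 12) (by decide +kernel)

theorem fi22_comm {v w : List Gen} (h : checkEq 12 (nw (v ++ w)) (nw (w ++ v)) = true) : wd v * wd w = wd w * wd v := by
  rw [← wd_append, ← wd_append]
  apply φ_injective
  rw [φ_wd, φ_wd]
  exact wperm_eq_of_checkEq (k := 12) (nw_ok _) (nw_ok _) h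

theorem fi22_xy : wd [.a, .b] * wd [.i, .h, .d, .e, .f, .g] = wd [.i, .h, .d, .e, .f, .g] * wd [.a, .b] :=
  fi22_comm (by decide +kernel)
theorem fi22_xz : wd [.a] * wd [.i, .h, .d, .e, .f, .g] = wd [.i, .h, .d, .e, .f, .g] * wd [.a] :=
  fi22_comm (by decide +kernel)

theorem fi22_model [Finite Spor.Fi22] [IsSimpleGroup Spor.Fi22] (hna : ¬ IsMulCommutative Spor.Fi22) :
    NoHall Spor.Fi22 := by
  have hc : Nat.card Spor.Fi22 = prodl [(2, 17), (3, 9), (5, 2), (7, 1), (11, 1), (13, 1)] := by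
    rw [card_fi22]; decide +kernel
  have : Fact (Nat.Prime 7) := ⟨by norm_num⟩
  refine noHall_of_elts' hna (l := [(2, 17), (3, 9), (5, 2), (7, 1), (11, 1), (13, 1)]) (by decide +kernel) hc
    (r := 7) (by norm_num) (by rw [hc]; decide +kernel) (need := [2, 3]) (orderOf_eq_prime fi22_x7 fi22_x1) ?_
    (by decide +kernel)
  intro q hq
  simp only [List.mem_cons, List.not_mem_nil, or_false] at hq
  rcases hq with rfl | rfl
  · exact ⟨by norm_num, _, 1, dvd_orderOf_of_pow (k := 1) (by norm_num) fi22_z2 fi22_z1, by rw [pow_one, fi22_xz]⟩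
  · exact ⟨by norm_num, _, 1, dvd_orderOf_of_pow (k := 1) (by norm_num) fi22_y3 fi22_y1, by rw [pow_one, fi22_xy]⟩

end

theorem fi22 {G : Type*} [Group G] [Finite G] [IsSimpleGroup G] (hna : ¬ IsMulCommutative G) (h : Spor.IsoFi22 G) :
    NoHall G := by
  obtain ⟨e⟩ := h
  exact row_congr hna e fi22_model

end Cfsg.Agent.H964.NoHall
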