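import Cfsg.Agent.H635.SporTh31
import Cfsg.Agent.H964.NoHall.Tr
import Cfsg.Agent.H603.SporElim
import Cfsg.Agent.Schreier.McLaughlin
import Cfsg.Agent.S0398
import Cfsg.Agent.S0400
import Cfsg.Agent.S1578
import Cfsg.Agent.S1580
import Cfsg.Agent.S1585
import Cfsg.Agent.S2069
import Cfsg.Agent.S2070
import Cfsg.Agent.S2071
import Cfsg.Agent.S2073
import Cfsg.Agent.Co2Type.CardCo2
import Cfsg.Agent.SporadicA.MathieuRecog
import Cfsg.Agent.Prune
set_option linter.all false
prune_inst 0x7f00000000000000000000000000000000000000000000000000000000000000000000000000000000000000000000000000000000000000000000000000000000000000000000000000000000000000003fffffffffffffffffffffffffffbeffbdffffffff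
open scoped Cfsg.Agent.FastGrp

/-!
# No Hall systems: McL, Co1, Co2, Co3 (helper964)
-/

set_option autoImplicit false

namespace Cfsg.Agent.H964.NoHall

open Subgroup Cfsg Cfsg.Agent.H554 Cfsg.Agent.NotCT MulAction

/-! ### M23 in `Co0` -/

/-- The embedding of `M23` into `Co0`. -/
noncomputable def embC : Spor.M23 →* Co0 := SporadicA.Co0Mono.permCo0.comp (Subgroup.inclusion (fun _ hg => hg.1))

theorem embC_coe (g : Spor.M23) (v : leechLattice) (p : GolayPt) :
    ((embC g • v : leechLattice) : GolayPt → ℤ) p = (v : GolayPt → ℤ) ((g : Equiv.Perm GolayPt).symm p) := rfl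

theorem m23_symm (g : Spor.M23) (p : GolayPt) : (g : Equiv.Perm GolayPt).symm p = none ↔ p = none := by
  rw [Equiv.symm_apply_eq]
  have : (g : Equiv.Perm GolayPt) none = none := ((SporadicA.MathieuRecog.mem_M23_iff _).1 g.2).2
  rw [this]

theorem embC_injective : Function.Injective embC := by
  rw [injective_iff_map_eq_one]
  intro g hg
  apply Subtype.ext
  apply Equiv.ext
  intro i
  show (g : Equiv.Perm GolayPt) i = i
  let v : leechLattice := ⟨_, AddSubgroup.subset_closure (Schreier.McLaughlin.eight_mem i)⟩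
  have h1 : embC g • v = v := by rw [hg, one_smul]
  have h2 : ((embC g • v : leechLattice) : GolayPt → ℤ) ((g : Equiv.Perm GolayPt) i) =
      (v : GolayPt → ℤ) ((g : Equiv.Perm GolayPt) i) := by rw [h1]
  rw [embC_coe, Equiv.symm_apply_apply] at h2
  have h3 : (if i = i then (8 : ℤ) else 0) = if (g : Equiv.Perm GolayPt) i = i then (8 : ℤ) else 0 := h2
  by_contra hne
  rw [if_pos rfl, if_neg hne] at h3
  exact absurd h3 (by norm_num)

theorem embC_V (g : Spor.M23) : embC g • Spor.leechV = Spor.leechV := by
  apply Subtype.ext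
  funext p
  rw [embC_coe]
  show Spor.vecV _ = Spor.vecV _
  simp only [Spor.vecV, m23_symm g p]

/-- The vector `(-3, 1²³)`. -/
def vecW : GolayPt → ℤ := fun p => if p = none then -3 else 1

theorem vecW_mem : vecW ∈ leechSet :=
  Spor.mem_leechSet_of_const_mod_four vecW 1 1 (by decide) (by decide) (by decide)

/-- The vector `(-3, 1²³)` in the Leech lattice. -/
def leechW : leechLattice := ⟨vecW, AddSubgroup.subset_closure vecW_mem⟩

theorem embC_W (g : Spor.M23) : embC g • leechW = leechW := by
  apply Subtype.ext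
  funext p
  rw [embC_coe]
  show vecW _ = vecW _
  simp only [vecW, m23_symm g p]

/-! ### Co3 -/

theorem co3_exists : ∃ X : Subgroup Spor.Co3, Nat.card X = 10200960 := by
  let f : Spor.M23 →* Spor.Co3 :=
    (Co0.subtype.comp embC).codRestrict Spor.Co3 (fun g => ⟨(embC g).2, embC_V g⟩)
  have hf : Function.Injective f := by
    intro a b h
    apply embC_injective
    exact Subtype.ext (congrArg (fun z : Spor.Co3 => (z : Equiv.Perm leechLattice)) h)
  refine ⟨f.range, ?_⟩
  rw [← SporadicA.MathieuRecog.card_M23]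
  exact (Nat.card_congr (MonoidHom.ofInjective hf).toEquiv).symm

theorem co3_model [Finite Spor.Co3] [IsSimpleGroup Spor.Co3] : NoHall Spor.Co3 := by
  have hc0 : Nat.card Spor.Co3 = 495766656000 := Orders.co3 ⟨MulEquiv.refl _⟩
  have hc : Nat.card Spor.Co3 = prodl [(2, 10), (3, 7), (5, 3), (7, 1), (11, 1), (23, 1)] := by
    rw [hc0]; decide +kernel
  obtain ⟨X, hX⟩ := co3_exists
  have hi : X.index = 48600 := by
    have := X.card_mul_index
    rw [hX, hc0] at this
    omega
  exact noHall_of_one S2071.result (by decide +kernel) hc X 48600 hi (by norm_num) (by decide +kernel)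
    (by decide +kernel)

theorem co3 {G : Type*} [Group G] [Finite G] [IsSimpleGroup G] (hna : ¬ IsMulCommutative G) (h : Spor.IsoCo3 G) :
    NoHall G := by
  obtain ⟨e⟩ := h
  exact row_congr hna e fun _ => co3_model

/-! ### Co2 -/

theorem co2_exists : ∃ X : Subgroup Spor.Co2, Nat.card X = 10200960 := by
  obtain ⟨k, hk⟩ := S0400.result leechW Spor.leechU (by show sqNorm vecW = 32; decide) (by
    show sqNorm Spor.vecU = 32; decide)
  have hk' : k⁻¹ • Spor.leechU = leechW := by rw [← hk, inv_smul_smul]
  have hfix : ∀ g : Spor.M23, (k * embC g * k⁻¹) • Spor.leechU = Spor.leechU := by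
    intro g
    rw [mul_smul, mul_smul, hk', embC_W, hk]
  let f : Spor.M23 →* Spor.Co2 :=
    (Co0.subtype.comp ((MulAut.conj k).toMonoidHom.comp embC)).codRestrict Spor.Co2
      (fun g => ⟨((MulAut.conj k).toMonoidHom (embC g)).2, hfix g⟩)
  have hf : Function.Injective f := by
    intro a b h
    apply embC_injective
    apply (MulAut.conj k).injective
    exact Subtype.ext (congrArg (fun z : Spor.Co2 => (z : Equiv.Perm leechLattice)) h)
  refine ⟨f.range, ?_⟩
  rw [← SporadicA.MathieuRecog.card_M23]
  exact (Nat.card_congr (MonoidHom.ofInjective hf).toEquiv).symm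

theorem co2_model [Finite Spor.Co2] [IsSimpleGroup Spor.Co2] : NoHall Spor.Co2 := by
  have hc0 : Nat.card Spor.Co2 = 42305421312000 := Co2Type.CardCo2.card_co2
  have hc : Nat.card Spor.Co2 = prodl [(2, 18), (3, 6), (5, 3), (7, 1), (11, 1), (23, 1)] := by
    rw [hc0]; decide +kernel
  obtain ⟨X, hX⟩ := co2_exists
  have hi : X.index = 4147200 := by
    have := X.card_mul_index
    rw [hX, hc0] at this
    omega
  exact noHall_of_one S2070.result (by decide +kernel) hc X 4147200 hi (by norm_num) (by decide +kernel)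
    (by decide +kernel)

theorem co2 {G : Type*} [Group G] [Finite G] [IsSimpleGroup G] (hna : ¬ IsMulCommutative G) (h : Spor.IsoCo2 G) :
    NoHall G := by
  obtain ⟨e⟩ := h
  exact row_congr hna e fun _ => co2_model

/-! ### Co1 -/

theorem co1_exists : ∃ X : Subgroup Spor.Co1, Nat.card X = 42305421312000 := by
  let H : Subgroup Co0 := stabilizer Co0 Spor.leechU
  have hH : Nat.card H = 42305421312000 := by
    rw [← Co2Type.CardCo2.card_co2, ← Co2Type.CardCo2.map_stabilizer,
      Subgroup.card_map_of_injective Co0.subtype_injective]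
  let f : H →* Spor.Co1 := (QuotientGroup.mk' (center Co0)).comp H.subtype
  have hf : Function.Injective f := by
    rw [injective_iff_map_eq_one]
    intro g hg
    have h1 : (g : Co0) ∈ center Co0 := (QuotientGroup.eq_one_iff _).mp hg
    rcases SporadicA.Co0Basic.eq_one_or_neg_of_mem_center h1 with h2 | h2
    · exact Subtype.ext h2
    · exfalso
      have h3 : (g : Co0) • Spor.leechU = Spor.leechU := g.2
      rw [h2] at h3
      have h4 : (-Spor.leechU : leechLattice) = Spor.leechU := h3
      have h5 := congrArg (fun z : leechLattice => (z : GolayPt → ℤ) none) h4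
      change -Spor.vecU none = Spor.vecU none at h5
      revert h5
      decide
  refine ⟨f.range, ?_⟩
  rw [← hH]
  exact (Nat.card_congr (MonoidHom.ofInjective hf).toEquiv).symm

theorem co1_model [Finite Spor.Co1] [IsSimpleGroup Spor.Co1] : NoHall Spor.Co1 := by
  have hc0 : Nat.card Spor.Co1 = 4157776806543360000 := Orders.co1 ⟨MulEquiv.refl _⟩
  have hc : Nat.card Spor.Co1 = prodl [(2, 21), (3, 9), (5, 4), (7, 2), (11, 1), (13, 1), (23, 1)] := by
    rw [hc0]; decide +kernel
  obtain ⟨X, hX⟩ := co1_exists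
  have hi : X.index = 98280 := by
    have := X.card_mul_index
    rw [hX, hc0] at this
    omega
  exact noHall_of_one S2069.result (by decide +kernel) hc X 98280 hi (by norm_num) (by decide +kernel)
    (by decide +kernel)

theorem co1 {G : Type*} [Group G] [Finite G] [IsSimpleGroup G] (hna : ¬ IsMulCommutative G) (h : Spor.IsoCo1 G) :
    NoHall G := by
  obtain ⟨e⟩ := h
  exact row_congr hna e fun _ => co1_model

/-! ### McL -/

theorem mcl_exists : ∃ X : Subgroup Spor.McL, X.index = 275 := by
  let v : leechLattice := -Spor.leechU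
  let T : Set leechLattice := {x : leechLattice | sqNorm (x : GolayPt → ℤ) = 32 ∧
    sqNorm ((Spor.leechV - x) : GolayPt → ℤ) = 32 ∧ dotInt (v : GolayPt → ℤ) (x : GolayPt → ℤ) = 16}
  have hres := S1580.result Spor.leechV v (by show sqNorm Spor.vecV = 48; decide) ⟨by
    show sqNorm (-Spor.vecU) = 32; decide, by show sqNorm (Spor.vecV - (-Spor.vecU)) = 32; decide⟩
  obtain ⟨hT, htr⟩ := hres
  obtain ⟨x, hx⟩ : T.Nonempty := by
    rw [← Set.ncard_pos (Set.finite_of_ncard_ne_zero (by rw [hT]; norm_num)), hT]
    norm_num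
  refine ⟨stabilizer Spor.McL x, ?_⟩
  rw [index_stabilizer]
  have hfix : ∀ g : Spor.McL, ((⟨g.1, g.2.1.1⟩ : Co0) • Spor.leechV = Spor.leechV) ∧
      ((⟨g.1, g.2.1.1⟩ : Co0) • v = v) := by
    intro g
    refine ⟨g.2.1.2, ?_⟩
    change (⟨g.1, g.2.1.1⟩ : Co0) • (-Spor.leechU) = -Spor.leechU
    rw [S1585.smul_neg']
    congr 1
    exact g.2.2
  have : orbit Spor.McL x = T := by
    ext y
    constructor
    · rintro ⟨g, rfl⟩
      obtain ⟨h1, h2⟩ := hfix g
      obtain ⟨hx1, hx2, hx3⟩ := hx
      change (⟨g.1, g.2.1.1⟩ : Co0) • x ∈ T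
      generalize (⟨g.1, g.2.1.1⟩ : Co0) = k at h1 h2
      refine ⟨?_, ?_, ?_⟩
      · rw [S1585.sqNorm_smul']; exact hx1
      · have h3 : Spor.leechV - k • x = k • (Spor.leechV - x) := by rw [S1578.smul_sub', h1]
        have h4 : ((Spor.leechV : GolayPt → ℤ) - ((k • x : leechLattice) : GolayPt → ℤ)) =
            ((k • (Spor.leechV - x) : leechLattice) : GolayPt → ℤ) := by
          rw [← h3]; rfl
        rw [h4, S1585.sqNorm_smul']
        exact hx2
      · have h3 := S1585.dotInt_smul' k v x
        rw [h2] at h3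
        rw [h3]
        exact hx3
    · intro hy
      obtain ⟨g, h1, h2, h3⟩ := htr x hx y hy
      refine ⟨⟨g.1, ⟨⟨g.2, h1⟩, ?_⟩⟩, h3⟩
      have h4 : g • Spor.leechU = Spor.leechU := by
        have h5 : g • (-Spor.leechU) = -Spor.leechU := h2
        rw [S1585.smul_neg'] at h5
        exact neg_injective h5
      exact h4
  rw [this]
  exact hT

theorem mcl_model [Finite Spor.McL] [IsSimpleGroup Spor.McL] (hna : ¬ IsMulCommutative Spor.McL) :
    NoHall Spor.McL := by
  have hc : Nat.card Spor.McL = prodl [(2, 7), (3, 6), (5, 3), (7, 1), (11, 1)] := by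
    rw [Schreier.McLaughlin.card_mcl]; decide +kernel
  obtain ⟨X, hX⟩ := mcl_exists
  exact noHall_of_two hna S2073.result (by decide +kernel) hc X 275 hX (by norm_num) (by decide +kernel)
    (by decide +kernel) (by decide +kernel) (r := 5) (by norm_num) (by decide +kernel) (by decide +kernel)

theorem mcl {G : Type*} [Group G] [Finite G] [IsSimpleGroup G] (hna : ¬ IsMulCommutative G) (h : Spor.IsoMcL G) :
    NoHall G := by
  obtain ⟨e⟩ := h
  exact row_congr hna e mcl_model

end Cfsg.Agent.H964.NoHall

private theorem dce_f4a48889977e : _root_.True := by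
  try have : _root_.True := by simp only [_root_.Cfsg.Agent.H964.NoHall.vecW.eq_1]
  exact _root_.True.intro
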